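import Cfsg.Agent.Lib.GoldOut.LThreeTwo
import Cfsg.Agent.Lib.OddDown.FixCorollary
import Cfsg.Agent.Lib.RankThreeEss.Setup
import Mathlib.GroupTheory.Exponent
import Mathlib.GroupTheory.FiniteAbelian.Basic

/-!
`Out(G)` is solvable if the group induced on a Sylow 2-subgroup by its normaliser in `Aut(G)` is; this covers
Sylow 2-subgroups of rank at most 2, and of rank 3 with a normaliser of odd order acting nontrivially.
-/

set_option autoImplicit false
set_option linter.unusedSectionVars false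
set_option linter.style.haveILetI false

namespace Cfsg.Agent.GoldOut

open Subgroup
open scoped Pointwise commutatorElement

universe u

variable {G : Type u} [Group G] [Finite G]

/-- Only the automorphisms of `S` normalising the group induced by `N(S)` matter. -/
theorem out_solvable_normalizing (h : OddChar.OddSolvable.{u}) [IsSimpleGroup G] (S : Sylow 2 G)
    (hS1 : (S : Subgroup G) ≠ ⊥)
    (hS : ∀ X : Subgroup (MulAut ↥(S : Subgroup G)),
      X ≤ normalizer (((S : Subgroup G).normalizerMonoidHom.range : Subgroup (MulAut ↥(S : Subgroup G))) : Set (MulAut ↥(S : Subgroup G))) →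
        Group.IsSolvable X) : Group.IsSolvable (Cfsg.Out G) := by
  haveI : Fact (Nat.Prime 2) := ⟨Nat.prime_two⟩
  haveI : Finite (MulAut G) := finite_mulAut G
  haveI : Finite (MulAut ↥(S : Subgroup G)) := finite_mulAut ↥(S : Subgroup G)
  have hO : ∀ N : Subgroup G, N.Normal → Odd (Nat.card N) → N = ⊥ := by
    intro N hN hodd
    rcases hN.eq_bot_or_eq_top with e | e
    · exact e
    · exfalso
      rw [e, card_top] at hodd
      obtain ⟨k, hk⟩ := IsPGroup.iff_card.1 S.isPGroup'
      rcases k with _ | k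
      · exact hS1 (eq_bot_of_card_eq _ (by rw [hk, pow_zero]))
      · have h2 : 2 ∣ Nat.card G := (dvd_pow_self 2 k.succ_ne_zero).trans (hk ▸ card_subgroup_dvd_card _)
        exact Nat.not_even_iff_odd.2 hodd (even_iff_two_dvd.2 h2)
  let Na : Subgroup (MulAut G) :=
    { carrier := {φ | ∀ x, x ∈ (S : Subgroup G) ↔ φ x ∈ (S : Subgroup G)}
      one_mem' := fun x => Iff.rfl
      mul_mem' := fun {a b} ha hb x => (hb x).trans (ha _)
      inv_mem' := fun {a} ha x => by
        conv_lhs => rw [← a.apply_symm_apply x]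
        exact (ha _).symm }
  let res : Na →* MulAut ↥(S : Subgroup G) :=
    { toFun := fun φ =>
        { toFun := fun s => ⟨(φ : MulAut G) s, (φ.2 s).1 s.2⟩
          invFun := fun s => ⟨((φ : MulAut G)⁻¹) s, ((inv_mem φ.2 : (φ : MulAut G)⁻¹ ∈ Na) s).1 s.2⟩
          left_inv := fun s => Subtype.ext ((φ : MulAut G).symm_apply_apply s)
          right_inv := fun s => Subtype.ext ((φ : MulAut G).apply_symm_apply s)
          map_mul' := fun a b => Subtype.ext (map_mul (φ : MulAut G) (a : G) b) }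
      map_one' := rfl
      map_mul' := fun a b => rfl }
  let C : Subgroup (MulAut G) := res.ker.map Na.subtype
  have hC : ∀ φ : MulAut G, φ ∈ C ↔ ∀ s : G, s ∈ S → φ s = s := by
    intro φ
    constructor
    · rintro ⟨a, ha, rfl⟩ s hs
      exact congrArg Subtype.val (DFunLike.congr_fun ha ⟨s, hs⟩)
    · intro hf
      have hN : φ ∈ Na := by
        intro x
        refine ⟨fun hx => by rw [hf x hx]; exact hx, fun hx => ?_⟩
        have := φ.injective (hf _ hx)
        rwa [this] at hx
      exact ⟨⟨φ, hN⟩, MulEquiv.ext fun s => Subtype.ext (hf s s.2), rfl⟩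
  haveI := (OddDown.aut_fix_sylow h hO S C hC).2
  haveI : Group.IsSolvable res.ker :=
    Group.isSolvable_of_surjective (f := (equivMapOfInjective res.ker Na.subtype Na.subtype_injective).symm.toMonoidHom)
      (equivMapOfInjective res.ker Na.subtype Na.subtype_injective).symm.surjective
  haveI : Group.IsSolvable res.range := by
    refine hS _ ?_
    rintro _ ⟨φ, rfl⟩
    refine mem_normalizer_fintype ?_
    rintro _ ⟨⟨g, hg⟩, rfl⟩
    have hg' : (φ : MulAut G) g ∈ normalizer ((S : Subgroup G) : Set G) := by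
      refine mem_normalizer_fintype fun x hx => ?_
      obtain ⟨y, hy, rfl⟩ : ∃ y ∈ (S : Subgroup G), (φ : MulAut G) y = x :=
        ⟨(φ : MulAut G).symm x, (φ.2 _).2 (by rw [MulEquiv.apply_symm_apply]; exact hx), MulEquiv.apply_symm_apply _ _⟩
      rw [← map_inv, ← map_mul, ← map_mul]
      exact (φ.2 _).1 ((mem_normalizer_iff.1 hg y).1 hy)
    refine ⟨⟨_, hg'⟩, MulEquiv.ext fun s => Subtype.ext ?_⟩
    show (φ : MulAut G) g * (s : G) * ((φ : MulAut G) g)⁻¹ =
      (φ : MulAut G) (g * ((φ : MulAut G).symm (s : G)) * g⁻¹)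
    rw [map_mul, map_mul, map_inv, MulEquiv.apply_symm_apply]
  haveI : Group.IsSolvable Na := Group.isSolvable_of_ker_le_range res.ker.subtype res.rangeRestrict
    (by rw [MonoidHom.ker_rangeRestrict, range_subtype])
  refine Group.isSolvable_of_surjective (f := (QuotientGroup.mk' (Cfsg.Inn G)).comp Na.subtype) fun q => ?_
  obtain ⟨φ, rfl⟩ := QuotientGroup.mk'_surjective (Cfsg.Inn G) q
  obtain ⟨g, hg⟩ := MulAction.exists_smul_eq G ((φ : MulAut G) • S) S
  have hmem : MulAut.conj g * φ ∈ Na := by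
    intro x
    have e : (S : Subgroup G) = MulAut.conj g • (φ • (S : Subgroup G)) := by
      conv_lhs => rw [← hg]
      rfl
    rw [← mul_smul] at e
    conv_rhs => rw [e]
    exact (Subgroup.smul_mem_pointwise_smul_iff (a := MulAut.conj g * φ) (S := (S : Subgroup G)) (x := x)).symm
  refine ⟨⟨_, hmem⟩, ?_⟩
  show QuotientGroup.mk' (Cfsg.Inn G) (MulAut.conj g * φ) = _
  rw [map_mul, show QuotientGroup.mk' (Cfsg.Inn G) (MulAut.conj g) = 1 from
    (QuotientGroup.eq_one_iff _).2 ⟨g, rfl⟩, one_mul]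

/-- A group generated by at most `n` elements has Frattini index at most `2ⁿ`. -/
theorem frattini_index_dvd {P : Type u} [Group P] [Finite P] (hP : IsPGroup 2 P) {n : ℕ} (t : Finset P)
    (ht : closure (t : Set P) = ⊤) (hn : t.card ≤ n) : (frattini P).index ∣ 2 ^ n := by
  classical
  haveI : Fact (Nat.Prime 2) := ⟨Nat.prime_two⟩
  have hcomm : ∀ a b : P ⧸ frattini P, a * b = b * a := by
    intro a b
    obtain ⟨x, rfl⟩ := QuotientGroup.mk_surjective a
    obtain ⟨y, rfl⟩ := QuotientGroup.mk_surjective b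
    rw [← QuotientGroup.mk_mul, ← QuotientGroup.mk_mul, QuotientGroup.eq]
    haveI : Group.IsNilpotent P := hP.isNilpotent
    refine SolvStruct.commutator_le_frattini P ?_
    have : (x * y)⁻¹ * (y * x) = ⁅y⁻¹, x⁻¹⁆ := by rw [commutatorElement_def]; group
    rw [this]
    exact Subgroup.commutator_mem_commutator (Subgroup.mem_top _) (Subgroup.mem_top _)
  letI : CommGroup (P ⧸ frattini P) := { QuotientGroup.Quotient.group (frattini P) with mul_comm := hcomm }
  have hexp : Monoid.exponent (P ⧸ frattini P) ∣ 2 := Monoid.exponent_dvd_of_forall_pow_eq_one fun x => by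
    obtain ⟨y, rfl⟩ := QuotientGroup.mk_surjective x
    rw [← QuotientGroup.mk_pow, QuotientGroup.eq_one_iff]
    exact PGroupBasics.pow_mem_frattini hP y
  have hrank : Group.rank (P ⧸ frattini P) ≤ n := by
    refine le_trans (Group.rank_le (S := t.image (QuotientGroup.mk' (frattini P))) ?_) (Finset.card_image_le.trans hn)
    rw [Finset.coe_image, ← MonoidHom.map_closure, ht, map_top_of_surjective _ (QuotientGroup.mk'_surjective _)]
  rw [index_eq_card]
  exact (card_dvd_exponent_pow_rank (P ⧸ frattini P)).trans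
    ((pow_dvd_pow_of_dvd hexp _).trans (pow_dvd_pow 2 hrank))

/-- The Frattini quotient of rank at most 2: the automorphism group is solvable. -/
theorem aut_solvable_small {P : Type u} [Group P] [Finite P] (hP : IsPGroup 2 P)
    (h : (frattini P).index ∣ 4) : Group.IsSolvable (MulAut P) := by
  haveI : Fact (Nat.Prime 2) := ⟨Nat.prime_two⟩
  haveI := finite_mulAut P
  obtain ⟨n, hn⟩ := IsPGroup.iff_card.1 hP
  obtain ⟨r, hr2, hr⟩ := (Nat.dvd_prime_pow Nat.prime_two).1 (show (frattini P).index ∣ 2 ^ 2 from h)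
  have hd := FrattiniAut.card_mulAut_dvd hn hr
  have h6 : Nat.card (MulAut P) ∣ 2 ^ (r * (n - r) + 1) * 3 ^ 1 := by
    refine hd.trans ?_
    rw [pow_succ, mul_assoc]
    refine Nat.mul_dvd_mul_left _ ?_
    interval_cases r <;> decide
  obtain ⟨a, b, ha, hb, e⟩ := (Nat.dvd_mul).1 h6
  obtain ⟨i, -, rfl⟩ := (Nat.dvd_prime_pow Nat.prime_two).1 ha
  obtain ⟨j, -, rfl⟩ := (Nat.dvd_prime_pow Nat.prime_three).1 hb
  exact Char.isSolvable_of_card_pq 2 3 Nat.prime_two Nat.prime_three _ _ rfl ⟨i, j, e.symm⟩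

/-- S3066 (a). -/
theorem out_two_generated (h : OddChar.OddSolvable.{u}) [IsSimpleGroup G] (S : Sylow 2 G)
    (hS1 : (S : Subgroup G) ≠ ⊥) (hr : (frattini ↥(S : Subgroup G)).index ∣ 4) : Group.IsSolvable (Cfsg.Out G) :=
  OddDown.out_solvable h S hS1 (aut_solvable_small S.isPGroup' hr)

/-- S3066 (b). -/
theorem out_three_generated (h : OddChar.OddSolvable.{u}) [IsSimpleGroup G] (S : Sylow 2 G)
    (hS1 : (S : Subgroup G) ≠ ⊥) (hr : (frattini ↥(S : Subgroup G)).index ∣ 8) {g : G}
    (hg : g ∈ normalizer ((S : Subgroup G) : Set G)) (hodd : Odd (orderOf g))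
    (hgC : g ∉ centralizer ((S : Subgroup G) : Set G)) : Group.IsSolvable (Cfsg.Out G) := by
  classical
  haveI : Fact (Nat.Prime 2) := ⟨Nat.prime_two⟩
  by_cases h4 : (frattini ↥(S : Subgroup G)).index ∣ 4
  · exact out_two_generated h S hS1 h4
  have h8 : (frattini ↥(S : Subgroup G)).index = 2 ^ 3 := by
    obtain ⟨r, hr3, e⟩ := (Nat.dvd_prime_pow Nat.prime_two).1 (show _ ∣ 2 ^ 3 from hr)
    rw [e] at h4 ⊢
    interval_cases r <;> simp_all
  obtain ⟨n, hn⟩ := IsPGroup.iff_card.1 (S.isPGroup')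
  have hA : Nat.card (MulAut (↥(S : Subgroup G) ⧸ frattini ↥(S : Subgroup G))) = 168 := by
    rw [(FrattiniAut.exists_generators hn h8).2]; decide
  have hV : Nat.card (↥(S : Subgroup G) ⧸ frattini ↥(S : Subgroup G)) = 8 := by rw [← index_eq_card, h8]; norm_num
  haveI : Finite (MulAut ↥(S : Subgroup G)) := finite_mulAut _
  refine out_solvable_normalizing h S hS1 fun X hX => ?_
  set ρ := RankThreeEss.autQuot (frattini ↥(S : Subgroup G)) with hρ
  set ν := (S : Subgroup G).normalizerMonoidHom with hν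
  have hk2 : IsPGroup 2 ρ.ker := RankThreeEss.isPGroup_ker_autQuot S.isPGroup' _ le_rfl
  have hKodd : Odd (Nat.card (ν.range.map ρ)) := by
    have hle : (S : Subgroup G).subgroupOf (normalizer ((S : Subgroup G) : Set G)) ≤ (ρ.comp ν).ker := by
      intro x hx
      refine MulEquiv.ext fun v => ?_
      obtain ⟨y, rfl⟩ := QuotientGroup.mk'_surjective _ v
      show QuotientGroup.mk' _ (ν x y) = QuotientGroup.mk' _ y
      rw [show ν x y = ⟨(x : G), hx⟩ * y * ⟨(x : G), hx⟩⁻¹ from Subtype.ext rfl]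
      refine QuotientGroup.eq.2 ?_
      haveI : Group.IsNilpotent ↥(S : Subgroup G) := S.isPGroup'.isNilpotent
      refine SolvStruct.commutator_le_frattini ↥(S : Subgroup G) ?_
      rw [show ((⟨(x : G), hx⟩ : ↥(S : Subgroup G)) * y * ⟨(x : G), hx⟩⁻¹)⁻¹ * y = ⁅(⟨(x : G), hx⟩ : ↥(S : Subgroup G)), y⁻¹⁆ by
        rw [commutatorElement_def]; group]
      exact Subgroup.commutator_mem_commutator (Subgroup.mem_top _) (Subgroup.mem_top _)
    have hdvd : Nat.card (ν.range.map ρ) ∣
        ((S : Subgroup G).subgroupOf (normalizer ((S : Subgroup G) : Set G))).index := by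
      rw [show ν.range.map ρ = (ρ.comp ν).range from (MonoidHom.range_comp ρ ν).symm, ← index_ker]
      exact index_dvd_of_le hle
    refine Odd.of_dvd_nat (Nat.odd_iff.2 ?_) hdvd
    have h2 : ¬ 2 ∣ (S : Subgroup G).relIndex (normalizer ((S : Subgroup G) : Set G)) :=
      fun hd => S.not_dvd_index (hd.trans (relIndex_dvd_index_of_le le_normalizer))
    have : ((S : Subgroup G).subgroupOf (normalizer ((S : Subgroup G) : Set G))).index =
      (S : Subgroup G).relIndex (normalizer ((S : Subgroup G) : Set G)) := rfl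
    omega
  have hK : ν.range.map ρ ≠ ⊥ := by
    intro e
    have h1 : ν ⟨g, hg⟩ ∈ ρ.ker := by
      have := e ▸ mem_map_of_mem ρ (MonoidHom.mem_range.2 ⟨⟨g, hg⟩, rfl⟩ : ν ⟨g, hg⟩ ∈ ν.range)
      exact mem_bot.1 this
    obtain ⟨k, hk⟩ := IsPGroup.iff_orderOf.1 hk2 ⟨_, h1⟩
    rw [Subgroup.orderOf_mk] at hk
    have hd : orderOf (ν ⟨g, hg⟩) ∣ orderOf g := by
      refine (orderOf_map_dvd ν _).trans ?_
      rw [Subgroup.orderOf_mk]
    have h1' : ν ⟨g, hg⟩ = 1 := by
      refine orderOf_eq_one_iff.1 (Nat.eq_one_of_dvd_coprimes (Nat.coprime_two_left.2 hodd |>.pow_left k) ?_ hd)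
      rw [hk]
    refine hgC (mem_centralizer_iff.2 fun s hs => ?_)
    have h2 : g * s * g⁻¹ = s := by
      have h3 := DFunLike.congr_fun h1' (⟨s, hs⟩ : ↥(S : Subgroup G))
      exact congrArg Subtype.val h3
    exact (mul_inv_eq_iff_eq_mul.1 h2).symm
  have hY : X.map ρ ≤ normalizer ((ν.range.map ρ : Subgroup _) : Set _) :=
    (map_mono hX).trans (le_normalizer_map ρ)
  haveI := solvable_of_normalizes hV hA _ _ hK hKodd hY
  haveI : Group.IsNilpotent ρ.ker := hk2.isNilpotent
  let r : X →* X.map ρ := ρ.subgroupMap X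
  haveI : Group.IsSolvable r.ker := by
    refine Group.isSolvable_of_isSolvable_injective
      (f := (X.subtype.comp r.ker.subtype).codRestrict ρ.ker fun x => congrArg Subtype.val x.2)
      fun a b e => ?_
    have e' := congrArg (fun z : ↥ρ.ker => (z : MulAut ↥(S : Subgroup G))) e
    exact Subtype.ext (Subtype.ext e')
  exact Group.isSolvable_of_ker_le_range r.ker.subtype r (by simp)

end Cfsg.Agent.GoldOut
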