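import Cfsg.Agent.Lib.Char.Burnside
import Mathlib.GroupTheory.Sylow
import Mathlib.GroupTheory.SpecificGroups.Cyclic
import Mathlib.Data.Nat.Totient
import Mathlib.Tactic.NormNum.Prime

/-!
A subgroup of `GL₃(2)`, as the automorphism group of a group of order 8, normalising a nontrivial subgroup
of odd order is solvable.
-/

set_option autoImplicit false
set_option linter.unusedSectionVars false
set_option linter.style.haveILetI false

namespace Cfsg.Agent.GoldOut

open Subgroup

universe u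

variable {V : Type u} [Group V] [Finite V]

theorem finite_mulAut (V : Type u) [Group V] [Finite V] : Finite (MulAut V) :=
  Finite.of_injective (fun e => ⇑e) fun _ _ e => MulEquiv.ext (congrFun e)

/-- An element of order 7 commutes with no nontrivial automorphism having a nontrivial fixed point. -/
theorem seven_free (hV : Nat.card V = 8) {m k : MulAut V} (hm : orderOf m = 7) (hc : Commute m k)
    {u : V} (hu : u ≠ 1) (hku : k u = u) : k = 1 := by
  classical
  haveI : Fact (Nat.Prime 7) := ⟨by norm_num⟩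
  have hfix : m u ≠ u := by
    intro h
    let F : Subgroup V := MonoidHom.eqLocus m.toMonoidHom (MonoidHom.id V)
    have hP : IsPGroup 7 (zpowers m) := IsPGroup.of_card (n := 1) (by rw [Nat.card_zpowers, hm, pow_one])
    have hmod := hP.card_modEq_card_fixedPoints V
    have heq : Nat.card (MulAction.fixedPoints (zpowers m) V) = Nat.card F := by
      refine Nat.card_congr (Equiv.subtypeEquivRight fun v => ?_)
      constructor
      · intro hv
        exact hv ⟨m, mem_zpowers m⟩
      · rintro hv ⟨g, hg⟩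
        obtain ⟨i, rfl⟩ := mem_zpowers_iff.1 hg
        have hs : m ∈ MulAction.stabilizer (MulAut V) v := MulAction.mem_stabilizer_iff.2 hv
        exact MulAction.mem_stabilizer_iff.1 ((MulAction.stabilizer (MulAut V) v).zpow_mem hs i)
    rw [heq, hV] at hmod
    have hd : Nat.card F ∣ 8 := hV ▸ card_subgroup_dvd_card F
    have h1 : Nat.card F ≠ 1 := fun e => hu (mem_bot.1 ((Subgroup.card_eq_one.1 e) ▸ (show u ∈ F from h)))
    have h8 : Nat.card F = 8 := by
      have hmem : Nat.card F ∈ Nat.divisors 8 := Nat.mem_divisors.2 ⟨hd, by norm_num⟩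
      rw [show Nat.divisors 8 = {1, 2, 4, 8} by decide] at hmem
      simp only [Finset.mem_insert, Finset.mem_singleton] at hmem
      rcases hmem with e | e | e | e <;> rw [e] at hmod ⊢ <;> revert hmod <;> simp_all [Nat.ModEq]
    have htop : F = ⊤ := eq_top_of_card_eq F (h8.trans hV.symm)
    have hm1 : m = 1 := MulEquiv.ext fun v => (htop ▸ mem_top v : v ∈ F)
    rw [hm1, orderOf_one] at hm
    exact absurd hm (by norm_num)
  have hne : ∀ i j : Fin 7, (m ^ (i : ℕ)) u = (m ^ (j : ℕ)) u → i = j := by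
    intro i j h
    by_contra hij
    have hst : (m ^ (j : ℕ))⁻¹ * m ^ (i : ℕ) ∈ MulAction.stabilizer (MulAut V) u := by
      rw [MulAction.mem_stabilizer_iff, mul_smul, inv_smul_eq_iff]
      exact h
    have hne1 : (m ^ (j : ℕ))⁻¹ * m ^ (i : ℕ) ≠ 1 := fun e => hij (Fin.ext (by
      have h1 := (inv_mul_eq_one.1 e).symm
      rw [pow_inj_mod, hm, Nat.mod_eq_of_lt i.2, Nat.mod_eq_of_lt j.2] at h1
      exact h1))
    have hmem : (m ^ (j : ℕ))⁻¹ * m ^ (i : ℕ) ∈ zpowers m :=
      mul_mem (inv_mem (npow_mem_zpowers _ _)) (npow_mem_zpowers _ _)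
    have hgen := zpowers_eq_top_of_prime_card (p := 7) (h := by rw [Nat.card_zpowers, hm])
      (g := (⟨_, hmem⟩ : zpowers m)) (fun e => hne1 (congrArg Subtype.val e))
    obtain ⟨l, hl⟩ := mem_zpowers_iff.1 (hgen ▸ mem_top (⟨m, mem_zpowers m⟩ : zpowers m))
    have hs : m ∈ MulAction.stabilizer (MulAut V) u := by
      have := zpow_mem hst l
      rwa [show ((m ^ (j : ℕ))⁻¹ * m ^ (i : ℕ)) ^ l = m from congrArg Subtype.val hl] at this
    exact hfix (MulAction.mem_stabilizer_iff.1 hs)
  refine MulEquiv.ext fun v => ?_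
  show k v = v
  by_cases hv : v = 1
  · rw [hv, map_one]
  haveI := Fintype.ofFinite V
  let f : Option (Fin 7) → V := fun o => o.elim 1 fun i => (m ^ (i : ℕ)) u
  have hf : Function.Injective f := by
    rintro (_ | i) (_ | j) h
    · rfl
    · exact absurd (h.symm.trans (map_one (m ^ (j : ℕ))).symm) fun e => hu ((m ^ (j : ℕ)).injective e)
    · exact absurd (h.trans (map_one (m ^ (i : ℕ))).symm) fun e => hu ((m ^ (i : ℕ)).injective e)
    · exact congrArg some (hne i j h)
  have hb : Function.Bijective f := (Fintype.bijective_iff_injective_and_card f).2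
    ⟨hf, by rw [Fintype.card_option, Fintype.card_fin, ← Nat.card_eq_fintype_card, hV]⟩
  obtain ⟨_ | i, rfl⟩ := hb.2 v
  · exact absurd rfl hv
  show k ((m ^ (i : ℕ)) u) = (m ^ (i : ℕ)) u
  rw [← MulAut.mul_apply, ← (hc.pow_left (i : ℕ)).eq, MulAut.mul_apply, hku]

/-- A 2-element or 3-element of prime order has a nontrivial fixed point. -/
theorem exists_fixed (hV : Nat.card V = 8) {p : ℕ} (hp : p = 2 ∨ p = 3) {k : MulAut V} (hk : orderOf k = p) :
    ∃ u : V, u ≠ 1 ∧ k u = u := by
  haveI : Fact p.Prime := ⟨by rcases hp with rfl | rfl <;> norm_num⟩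
  have hP : IsPGroup p (zpowers k) := IsPGroup.of_card (n := 1) (by rw [Nat.card_zpowers, hk, pow_one])
  have hmod := hP.card_modEq_card_fixedPoints V
  rw [hV] at hmod
  by_contra! hall
  haveI : Subsingleton (MulAction.fixedPoints (zpowers k) V) := by
    refine ⟨fun a b => Subtype.ext ?_⟩
    have h : ∀ x : MulAction.fixedPoints (zpowers k) V, (x : V) = 1 := fun x =>
      by_contra fun hx => hall x hx (x.2 ⟨k, mem_zpowers k⟩)
    rw [h a, h b]
  haveI : Nonempty (MulAction.fixedPoints (zpowers k) V) := ⟨⟨1, fun g => map_one (g : MulAut V)⟩⟩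
  rw [Nat.card_eq_one_iff_unique.2 ⟨inferInstance, inferInstance⟩] at hmod
  rcases hp with rfl | rfl <;> simp [Nat.ModEq] at hmod

/-- The automorphism group has no normal subgroup of order 3 or 7. -/
theorem no_normal_prime (hV : Nat.card V = 8) (hA : Nat.card (MulAut V) = 168) (P : Subgroup (MulAut V))
    [P.Normal] (hP : Nat.card P = 3 ∨ Nat.card P = 7) : False := by
  haveI := finite_mulAut V
  obtain ⟨r, hr, hcP⟩ : ∃ r, r.Prime ∧ Nat.card P = r := ⟨_, by rcases hP with e | e <;> rw [e] <;> norm_num, rfl⟩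
  haveI : Fact r.Prime := ⟨hr⟩
  haveI : IsCyclic P := isCyclic_of_prime_card hcP
  haveI : Finite (MulAut P) := finite_mulAut P
  set φ : MulAut V →* MulAut P := MulAut.conjNormal
  have hker : ∀ g ∈ φ.ker, ∀ a ∈ P, Commute g a := fun g hg a ha => by
    have h := congrArg Subtype.val (DFunLike.congr_fun (MonoidHom.mem_ker.1 hg) ⟨a, ha⟩)
    rw [MulAut.conjNormal_apply, MulAut.one_apply] at h
    exact mul_inv_eq_iff_eq_mul.1 h
  have hidx : φ.ker.index ∣ r - 1 := by
    rw [index_ker, ← Nat.totient_prime hr, ← hcP, ← IsCyclic.card_mulAut P]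
    exact card_subgroup_dvd_card _
  have hmul := card_mul_index φ.ker
  rw [hA] at hmul
  obtain ⟨⟨a, ha⟩, ha'⟩ := exists_prime_orderOf_dvd_card' (G := P) r (by rw [hcP])
  rw [Subgroup.orderOf_mk] at ha'
  rcases hP with e | e
  · obtain rfl : r = 3 := hcP.symm.trans e
    have h7 : 7 ∣ Nat.card φ.ker := (Nat.Coprime.dvd_mul_right
      (Nat.Coprime.coprime_dvd_right hidx (by norm_num))).1 (hmul ▸ by norm_num)
    haveI : Fact (Nat.Prime 7) := ⟨by norm_num⟩
    obtain ⟨⟨m, hm⟩, hm'⟩ := exists_prime_orderOf_dvd_card' (G := φ.ker) 7 h7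
    rw [Subgroup.orderOf_mk] at hm'
    obtain ⟨u, hu, hau⟩ := exists_fixed hV (Or.inr rfl) ha'
    rw [seven_free hV hm' (hker m hm a ha) hu hau, orderOf_one] at ha'
    exact absurd ha' (by norm_num)
  · obtain rfl : r = 7 := hcP.symm.trans e
    haveI : Fact (Nat.Prime 2) := ⟨Nat.prime_two⟩
    have h4 : 4 ∣ Nat.card φ.ker * φ.ker.index := hmul ▸ by norm_num
    have h2 : 2 ∣ Nat.card φ.ker := by
      by_contra h
      have h4' : 4 ∣ φ.ker.index := (Nat.Coprime.dvd_mul_left
        (Nat.Coprime.pow_left 2 ((Nat.prime_two.coprime_iff_not_dvd).2 h))).1 h4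
      exact absurd (h4'.trans hidx) (by norm_num)
    obtain ⟨⟨t, ht⟩, ht'⟩ := exists_prime_orderOf_dvd_card' (G := φ.ker) 2 h2
    rw [Subgroup.orderOf_mk] at ht'
    obtain ⟨u, hu, htu⟩ := exists_fixed hV (Or.inl rfl) ht'
    rw [seven_free hV ha' (hker t ht a ha).symm hu htu, orderOf_one] at ht'
    exact absurd ht' (by norm_num)

theorem seven_unique {G : Type u} [Group G] [Finite G] (h7 : 7 ∣ Nat.card G) (hd : Nat.card G ∣ 84) :
    ∃ P : Sylow 7 G, (P : Subgroup G).Characteristic ∧ Nat.card (P : Subgroup G) = 7 := by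
  haveI : Fact (Nat.Prime 7) := ⟨by norm_num⟩
  obtain ⟨P⟩ := (inferInstance : Nonempty (Sylow 7 G))
  obtain ⟨j, hj⟩ := IsPGroup.iff_card.1 P.isPGroup'
  have hidx := P.card_mul_index (G := G)
  have hj0 : j ≠ 0 := by
    rintro rfl
    exact P.not_dvd_index (by rw [← hidx, hj, pow_zero, one_mul] at h7; exact h7)
  have hj1 : j = 1 := by
    rcases Nat.lt_or_ge j 2 with h | h
    · omega
    · exact absurd (((Nat.pow_dvd_pow 7 h).trans (hj ▸ card_subgroup_dvd_card _)).trans hd) (by norm_num)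
  subst hj1
  rw [pow_one] at hj
  rw [hj] at hidx
  have hi : (P : Subgroup G).index ∣ 12 :=
    Nat.dvd_of_mul_dvd_mul_left (show 0 < 7 by norm_num) (by rw [hidx]; exact hd)
  have hn := (P.card_dvd_index).trans hi
  have hm := card_sylow_modEq_one 7 G
  have h1 : Nat.card (Sylow 7 G) = 1 := by
    have hmem : Nat.card (Sylow 7 G) ∈ Nat.divisors 12 := Nat.mem_divisors.2 ⟨hn, by norm_num⟩
    rw [show Nat.divisors 12 = {1, 2, 3, 4, 6, 12} by decide] at hmem
    simp only [Finset.mem_insert, Finset.mem_singleton] at hmem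
    rcases hmem with e | e | e | e | e | e <;> rw [e] at hm ⊢ <;> simp_all [Nat.ModEq]
  haveI : Subsingleton (Sylow 7 G) := (Nat.card_eq_one_iff_unique.1 h1).1
  exact ⟨P, P.characteristic_of_subsingleton, hj⟩

theorem solvable_of_seven {G : Type u} [Group G] [Finite G] (h7 : 7 ∣ Nat.card G) (hd : Nat.card G ∣ 84) :
    Group.IsSolvable G := by
  obtain ⟨P, hPc, hP⟩ := seven_unique h7 hd
  haveI : Group.IsSolvable (P : Subgroup G) :=
    Char.isSolvable_of_card_pq 7 2 (by norm_num) Nat.prime_two _ _ rfl ⟨1, 0, by rw [hP]; rfl⟩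
  haveI : Group.IsSolvable (G ⧸ (P : Subgroup G)) := by
    refine Char.isSolvable_of_card_pq 2 3 Nat.prime_two Nat.prime_three _ _ rfl ?_
    have hidx := (P : Subgroup G).card_mul_index
    rw [hP] at hidx
    have hi : (P : Subgroup G).index ∣ 12 :=
      Nat.dvd_of_mul_dvd_mul_left (show 0 < 7 by norm_num) (by rw [hidx]; exact hd)
    rw [← index_eq_card]
    have hmem : (P : Subgroup G).index ∈ Nat.divisors 12 := Nat.mem_divisors.2 ⟨hi, by norm_num⟩
    rw [show Nat.divisors 12 = {1, 2, 3, 4, 6, 12} by decide] at hmem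
    simp only [Finset.mem_insert, Finset.mem_singleton] at hmem
    rcases hmem with e | e | e | e | e | e <;> rw [e]
    exacts [⟨0, 0, rfl⟩, ⟨1, 0, rfl⟩, ⟨0, 1, rfl⟩, ⟨2, 0, rfl⟩, ⟨1, 1, rfl⟩, ⟨2, 1, rfl⟩]
  exact Group.isSolvable_of_ker_le_range (P : Subgroup G).subtype (QuotientGroup.mk' (P : Subgroup G))
    (by simp)

/-- A subgroup of `GL₃(2)` normalising a nontrivial subgroup of odd order is solvable. -/
theorem solvable_of_normalizes (hV : Nat.card V = 8) (hA : Nat.card (MulAut V) = 168)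
    (Y K : Subgroup (MulAut V)) (hK : K ≠ ⊥) (hKodd : Odd (Nat.card K)) (hY : Y ≤ normalizer (K : Set (MulAut V))) :
    Group.IsSolvable Y := by
  haveI := finite_mulAut V
  have hd : Nat.card Y ∣ 168 := hA ▸ card_subgroup_dvd_card Y
  by_cases h168 : Nat.card Y = 168
  · exfalso
    have htop : Y = ⊤ := eq_top_of_card_eq Y (h168.trans hA.symm)
    haveI hKn : K.Normal := normalizer_eq_top_iff.1 (eq_top_iff.2 (htop ▸ hY))
    have hK21 : Nat.card K ∣ 21 := by
      have h : Nat.card K ∣ 8 * 21 := by simpa [hA] using card_subgroup_dvd_card K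
      exact (Nat.Coprime.dvd_mul_left
        (show (Nat.card K).Coprime (2 ^ 3) from (Nat.coprime_two_right.2 hKodd).pow_right 3)).1 h
    by_cases h7 : 7 ∣ Nat.card K
    · obtain ⟨P, hPc, hP⟩ := seven_unique h7 (hK21.trans (by norm_num))
      haveI := hPc
      haveI : ((P : Subgroup K).map K.subtype).Normal := ConjAct.normal_of_characteristic_of_normal
      exact no_normal_prime hV hA ((P : Subgroup K).map K.subtype)
        (Or.inr ((card_map_of_injective K.subtype_injective).trans hP))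
    · have h3 : Nat.card K ∣ 3 :=
        ((Nat.Coprime.dvd_mul_right ((Nat.Prime.coprime_iff_not_dvd (by norm_num)).2 h7).symm).1
          (show Nat.card K ∣ 3 * 7 from hK21))
      rcases (Nat.dvd_prime Nat.prime_three).1 h3 with e | e
      · exact hK (Subgroup.card_eq_one.1 e)
      · exact no_normal_prime hV hA K (Or.inl e)
  · by_cases h21 : 7 ∣ Nat.card Y ∧ 3 ∣ Nat.card Y
    · refine solvable_of_seven h21.1 ?_
      have hmem : Nat.card Y ∈ Nat.divisors 168 := Nat.mem_divisors.2 ⟨hd, by norm_num⟩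
      have key : ∀ d ∈ Nat.divisors 168, d ≠ 168 → 3 ∣ d → 7 ∣ d → d ∣ 84 := by decide +kernel
      exact key _ hmem h168 h21.2 h21.1
    · have hmem : Nat.card Y ∈ Nat.divisors 168 := Nat.mem_divisors.2 ⟨hd, by norm_num⟩
      have key : ∀ d ∈ Nat.divisors 168, ¬ (7 ∣ d ∧ 3 ∣ d) →
          (∃ a < 4, ∃ b < 2, d = 2 ^ a * 3 ^ b) ∨ (∃ a < 4, ∃ b < 2, d = 2 ^ a * 7 ^ b) := by decide +kernel
      rcases key _ hmem h21 with ⟨a, -, b, -, e⟩ | ⟨a, -, b, -, e⟩
      · exact Char.isSolvable_of_card_pq 2 3 Nat.prime_two Nat.prime_three _ _ rfl ⟨a, b, e⟩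
      · exact Char.isSolvable_of_card_pq 2 7 Nat.prime_two (by norm_num) _ _ rfl ⟨a, b, e⟩

end Cfsg.Agent.GoldOut
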