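import Cfsg.Agent.Lib.GoldOut.Frame
import Cfsg.Agent.Lib.GoldGroups.Naming
import Cfsg.Agent.Lib.GW.AutTarget
import Cfsg.Agent.Lib.Suzuki.Out
import Cfsg.Agent.Lib.Suzuki.Minor
import Cfsg.Agent.Lib.SU3Sylow.AutStructure
import Cfsg.Agent.Lib.SU3Sylow.Embed
import Cfsg.Agent.Lib.SEMain.Bender
import Cfsg.Agent.Lib.SEMain.Proof
import Cfsg.Agent.Lib.OddChar.OddTheorem
import Cfsg.Prelude.Def_TwoFusion

/-!
S3066: criteria on a Sylow 2-subgroup for `Out(G)` to be solvable, from the simple form of Goldschmidt's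
theorem and the list of the simple groups with abelian Sylow 2-subgroups.
-/

set_option autoImplicit false
set_option linter.unusedSectionVars false
set_option linter.style.haveILetI false

namespace Cfsg.Agent.GoldOut

open Subgroup

universe u

theorem out_sz_solvable {F : Type*} [Field F] [Fintype F] {m : ℕ} (h : Suzuki.SzField F m) :
    Group.IsSolvable (Cfsg.Out (Cfsg.Sz F m)) := by
  refine Group.isSolvable_of_comm fun a b => ?_
  induction a using QuotientGroup.induction_on with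
  | _ α =>
  induction b using QuotientGroup.induction_on with
  | _ β =>
  obtain ⟨i, -, u, rfl⟩ := Suzuki.exists_inner_mul_frob h α
  obtain ⟨j, -, v, rfl⟩ := Suzuki.exists_inner_mul_frob h β
  have hc : Suzuki.frobAut h i * Suzuki.frobAut h j = Suzuki.frobAut h j * Suzuki.frobAut h i := by
    refine MulEquiv.ext fun x => Subtype.ext (Subtype.ext (Matrix.ext fun r c => ?_))
    show (Suzuki.frobSL h i (Suzuki.frobSL h j x.1)).1 r c = (Suzuki.frobSL h j (Suzuki.frobSL h i x.1)).1 r c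
    rw [Suzuki.frobSL_coe, Suzuki.frobSL_coe, Suzuki.frobSL_coe, Suzuki.frobSL_coe]
    simp [Matrix.map_apply, ← pow_mul, mul_comm (2 ^ i)]
  have hu : ∀ w, (QuotientGroup.mk (MulAut.conj w) : Cfsg.Out (Cfsg.Sz F m)) = 1 := fun w =>
    (QuotientGroup.eq_one_iff _).2 ⟨w, rfl⟩
  rw [QuotientGroup.mk_mul, QuotientGroup.mk_mul, hu, hu, one_mul, one_mul, ← QuotientGroup.mk_mul,
    ← QuotientGroup.mk_mul, hc]

open SU3Sylow SU3Sylow.Heis in
theorem aut_heis_solvable {F : Type u} [Field F] [CharP F 2] [Finite F] {σ : F →+* F} [SU3Sylow.Inv2 σ]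
    (hne : σ ≠ RingHom.id F) : Group.IsSolvable (MulAut (Heis σ)) := by
  classical
  choose f m hfm using Heis.exists_semilinear (σ := σ) hne
  have huniq : ∀ {φ : MulAut (Heis σ)} {f' : F ≃+* F} {m' : Fˣ}, (∀ x, (φ x).a = m' * f' x.a) →
      m φ = m' ∧ f φ = f' := fun {φ f' m'} h => by
    refine Heis.semilinear_unique (σ := σ) hne fun a => ?_
    obtain ⟨x, rfl⟩ := exists_mk (σ := σ) hne a
    rw [← hfm, h]
  have hmul : ∀ φ ψ, m (φ * ψ) = m φ * Units.map (f φ).toMonoidHom (m ψ) ∧ f (φ * ψ) = f φ * f ψ := fun φ ψ =>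
    huniq fun x => by
      show (φ (ψ x)).a = _
      rw [hfm, hfm, map_mul, ← mul_assoc]
      rfl
  let θ : MulAut (Heis σ) →* (F ≃+* F) := MonoidHom.mk' f fun φ ψ => (hmul φ ψ).2
  let μ : θ.ker →* Fˣ := MonoidHom.mk' (fun φ => m φ.1) fun φ ψ => by
    have h1 : f φ.1 = 1 := φ.2
    show m (φ.1 * ψ.1) = m φ.1 * m ψ.1
    rw [(hmul φ.1 ψ.1).1, h1]
    rfl
  haveI : Group.IsSolvable μ.ker := by
    refine Group.isSolvable_of_comm fun a b => Subtype.ext (Subtype.ext ?_)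
    have hfix : ∀ c : μ.ker, (c.1.1 : MulAut (Heis σ)) ∈ fixQuot (σ := σ) := fun c x => by
      have h1 : m c.1.1 = 1 := c.2
      have h2 : f c.1.1 = 1 := c.1.2
      rw [hfm, h1, h2, Units.val_one, one_mul]
      rfl
    have h := congrArg (fun z : fixQuot (σ := σ) => (z : MulAut (Heis σ)))
      ((Heis.fixQuot_elementary (σ := σ) hne).1.is_comm.comm ⟨_, hfix a⟩ ⟨_, hfix b⟩)
    exact h
  haveI : Group.IsSolvable θ.ker :=
    haveI : Group.IsSolvable Fˣ := Group.isSolvable_of_comm mul_comm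
    Group.isSolvable_of_ker_le_range μ.ker.subtype μ (by simp)
  haveI : Group.IsSolvable (F ≃+* F) :=
    haveI := Fintype.ofFinite F
    Group.isSolvable_of_comm fun a b => AutPSL.ringAut_comm a b
  exact Group.isSolvable_of_ker_le_range θ.ker.subtype θ (by simp)

variable {G : Type u} [Group G] [Finite G]

theorem out_psu_solvable [IsSimpleGroup G] (S : Sylow 2 G) (hS1 : (S : Subgroup G) ≠ ⊥) {F : Type} [Field F]
    [Fintype F] {n : ℕ} (hn : 2 ≤ n) (hF : Fintype.card F = (2 ^ n) ^ 2) (e : G ≃* Cfsg.PSU 3 F (2 ^ n)) :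
    Group.IsSolvable (Cfsg.Out G) := by
  haveI : Fact (Nat.Prime 2) := ⟨Nat.prime_two⟩
  haveI : Finite (Cfsg.PSU 3 F (2 ^ n)) := Finite.of_equiv G e.toEquiv
  obtain ⟨hch, σ, hinv, hne, hσ, hq⟩ := SU3Sylow.setup (F := F) (n := n) (by omega) hF
  haveI := hinv
  let P : Sylow 2 (Cfsg.PSU 3 F (2 ^ n)) := S.mapSurjective (f := e.toMonoidHom) e.surjective
  obtain ⟨eP⟩ := SU3Sylow.sylow_PSU_equiv (σ := σ) hne (by omega : 1 ≤ n) hσ hq P
  let eS : ↥(S : Subgroup G) ≃* SU3Sylow.Heis σ :=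
    (equivMapOfInjective (S : Subgroup G) e.toMonoidHom e.injective).trans eP
  haveI := aut_heis_solvable (σ := σ) hne
  exact OddDown.out_solvable OddChar.oddSolvable S hS1
    (Group.isSolvable_of_isSolvable_injective (f := (MulAut.congr eS).toMonoidHom) (MulAut.congr eS).injective)

/-- S3066 from the simple form of Goldschmidt's theorem and Walter's list. -/
theorem S3066_of (h1 : GoldGroups.ClosedAbelianSimple.{u}) (hW : GoldGroups.WalterGood.{u})
    [IsSimpleGroup G] (hG : ¬ IsMulCommutative G) (S : Sylow 2 G) (hS1 : (S : Subgroup G) ≠ ⊥)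
    (h : (∃ a b : ↥S, Subgroup.closure ({a, b} : Set ↥S) = ⊤) ∨
      ((∃ a b c : ↥S, Subgroup.closure ({a, b, c} : Set ↥S) = ⊤) ∧
        ∃ g ∈ Subgroup.normalizer ((S : Subgroup G) : Set G), Odd (orderOf g) ∧ g ∉ Subgroup.centralizer ((S : Subgroup G) : Set G)) ∨
      ((∀ s ∈ S, ∀ t ∈ S, orderOf s = 2 → orderOf t = 2 → s * t = t * s) ∧
        (∀ s ∈ S, ∀ t ∈ S, orderOf s = 2 → orderOf t = 2 → ∃ g : G, g * s * g⁻¹ = t))) :
    Group.IsSolvable (Cfsg.Out G) := by
  classical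
  haveI : Fact (Nat.Prime 2) := ⟨Nat.prime_two⟩
  rcases h with ⟨a, b, hab⟩ | ⟨⟨a, b, c, habc⟩, g, hg, hodd, hgC⟩ | ⟨hcm, -⟩
  · exact out_two_generated OddChar.oddSolvable S hS1
      (frattini_index_dvd (n := 2) S.isPGroup' {a, b} (by rw [Finset.coe_insert, Finset.coe_singleton]; exact hab)
        Finset.card_le_two)
  · exact out_three_generated OddChar.oddSolvable S hS1
      (frattini_index_dvd (n := 3) S.isPGroup' {a, b, c}
        (by rw [Finset.coe_insert, Finset.coe_insert, Finset.coe_singleton]; exact habc) Finset.card_le_three)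
      hg hodd hgC
  have hcm' : ∀ s ∈ (S : Subgroup G), ∀ t ∈ (S : Subgroup G), s * s = 1 → t * t = 1 → s * t = t * s := by
    intro s hs t ht hs2 ht2
    by_cases hs1 : s = 1
    · rw [hs1, one_mul, mul_one]
    by_cases ht1 : t = 1
    · rw [ht1, one_mul, mul_one]
    exact hcm s hs t ht (orderOf_eq_prime (by rw [pow_two, hs2]) hs1) (orderOf_eq_prime (by rw [pow_two, ht2]) ht1)
  let A : Subgroup G :=
    { carrier := {x | x ∈ (S : Subgroup G) ∧ x * x = 1}
      one_mem' := ⟨one_mem _, one_mul 1⟩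
      mul_mem' := fun {x y} hx hy => ⟨mul_mem hx.1 hy.1, by
        rw [mul_assoc, ← mul_assoc y, ← hcm' x hx.1 y hy.1 hx.2 hy.2, mul_assoc, hy.2, mul_one, hx.2]⟩
      inv_mem' := fun {x} hx => ⟨inv_mem hx.1, by rw [← mul_inv_rev, hx.2, inv_one]⟩ }
  have hA : A ≠ ⊥ := by
    obtain ⟨k, hk⟩ := IsPGroup.iff_card.1 S.isPGroup'
    have hk0 : k ≠ 0 := fun e => hS1 (eq_bot_of_card_eq _ (by rw [hk, e, pow_zero]))
    obtain ⟨⟨x, hxS⟩, hx⟩ := exists_prime_orderOf_dvd_card' (G := ↥(S : Subgroup G)) 2 (hk ▸ dvd_pow_self 2 hk0)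
    rw [Subgroup.orderOf_mk] at hx
    intro e
    have hxA : x ∈ A := ⟨hxS, by rw [← pow_two, ← hx, pow_orderOf_eq_one]⟩
    rw [e, mem_bot] at hxA
    rw [hxA, orderOf_one] at hx
    omega
  have hAc : IsMulCommutative A := ⟨⟨fun x y => Subtype.ext (hcm' x x.2.1 y y.2.1 x.2.2 y.2.2)⟩⟩
  have hcl : Cfsg.IsStronglyClosed A (S : Subgroup G) :=
    ⟨fun x hx => hx.1, fun x hx g hgx => ⟨hgx, by
      rw [show g * x * g⁻¹ * (g * x * g⁻¹) = g * (x * x) * g⁻¹ by group, hx.2]; group⟩⟩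
  have hpsl : ∀ {F : Type} [Field F] [Fintype F], (G ≃* Matrix.ProjectiveSpecialLinearGroup (Fin 2) F) →
      Group.IsSolvable (Cfsg.Out G) := fun {F} _ _ e => GW.out_solvable_congr e (GW.out_psl_solvable F)
  rcases h1 G S A hA hAc hcl with hab | ⟨H, hH⟩
  · have habs : ∀ P : Sylow 2 G, IsMulCommutative (P : Subgroup G) := fun P =>
      ⟨⟨fun x y => (Sylow.equiv P S).injective (by
        rw [map_mul, map_mul]; exact hab.is_comm.comm _ _)⟩⟩
    rcases hW G inferInstance hG habs with ⟨F, _, _, -, ⟨e⟩⟩ | ⟨-, T, hT, -⟩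
    · exact hpsl e
    · have hcard : Nat.card ↥(T : Subgroup G) = 8 := hT.card
      have hcd : (frattini ↥(T : Subgroup G)).index ∣ 8 := hcard ▸ index_dvd_card _
      have hTne : (T : Subgroup G) ≠ ⊥ := fun e => by rw [e, card_bot] at hcard; omega
      obtain ⟨x, hxT, hx1⟩ : ∃ x ∈ (T : Subgroup G), x ≠ 1 := (T : Subgroup G).bot_or_exists_ne_one.resolve_left hTne
      obtain ⟨y, hy, -, hyC⟩ := hT.moves x hxT hx1
      haveI : IsMulCommutative (T : Subgroup G) := habs T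
      -- an element of odd order inducing the same automorphism
      obtain ⟨k, hk⟩ : ∃ k, y ^ 2 ^ k ∈ zpowers y ∧ Odd (orderOf (y ^ 2 ^ k)) := by
        refine ⟨(orderOf y).factorization 2, npow_mem_zpowers _ _, ?_⟩
        rw [orderOf_pow' _ (by positivity), Nat.gcd_eq_right (Nat.ordProj_dvd _ _)]
        exact Nat.odd_iff.2 (Nat.two_dvd_ne_zero.1 (Nat.not_dvd_ordCompl Nat.prime_two (orderOf_pos y).ne'))
      refine out_three_generated OddChar.oddSolvable T hTne hcd (g := y ^ 2 ^ k) (pow_mem hy _) hk.2 fun hc => ?_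
      set ν := (T : Subgroup G).normalizerMonoidHom with hν
      have hle : (T : Subgroup G).subgroupOf (normalizer ((T : Subgroup G) : Set G)) ≤ ν.ker := by
        intro x hx
        refine MulEquiv.ext fun s => Subtype.ext ?_
        show (x : G) * s * (x : G)⁻¹ = s
        have := congrArg Subtype.val ((habs T).is_comm.comm (⟨(x : G), hx⟩ : ↥(T : Subgroup G)) s)
        exact mul_inv_eq_iff_eq_mul.2 this
      have h2 : ¬ 2 ∣ ν.ker.index := fun hd => T.not_dvd_index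
        ((hd.trans (index_dvd_of_le hle)).trans (relIndex_dvd_index_of_le le_normalizer))
      have hod : orderOf (ν ⟨y, hy⟩) ∣ ν.ker.index := by
        rw [index_ker, ← Subgroup.orderOf_mk (ν ⟨y, hy⟩) (MonoidHom.mem_range.2 ⟨_, rfl⟩)]
        exact orderOf_dvd_natCard _
      have hpow : ν ⟨y, hy⟩ ^ 2 ^ k = 1 := by
        rw [← map_pow]
        refine MulEquiv.ext fun s => Subtype.ext ?_
        show (y ^ 2 ^ k) * (s : G) * (y ^ 2 ^ k)⁻¹ = s
        exact mul_inv_eq_iff_eq_mul.2 (mem_centralizer_iff.1 hc s s.2).symm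
      have h1' : ν ⟨y, hy⟩ = 1 := orderOf_eq_one_iff.1 (Nat.eq_one_of_dvd_coprimes
        ((Nat.prime_two.coprime_iff_not_dvd.2 h2).pow_left k) (orderOf_dvd_of_pow_eq_one hpow) hod)
      refine hyC (mem_centralizer_iff.2 fun s hs => ?_)
      have h3 := DFunLike.congr_fun h1' (⟨s, hs⟩ : ↥(T : Subgroup G))
      exact (mul_inv_eq_iff_eq_mul.1 (congrArg Subtype.val h3)).symm
  · rcases SEMain.bender_of_simple SEMain.stmt hH with ⟨F, _, _, -, ⟨e⟩⟩ | hsz | ⟨F, _, _, n, hn, hF, ⟨e⟩⟩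
    · exact hpsl e
    · obtain ⟨F, _, _, m, hm, hF, ⟨e⟩⟩ := hsz
      exact GW.out_solvable_congr (e.trans (Suzuki.minorEquiv (⟨hm, hF⟩ : Suzuki.SzField F m)).symm)
        (out_sz_solvable ⟨hm, hF⟩)
    · exact out_psu_solvable S hS1 hn hF e

end Cfsg.Agent.GoldOut
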